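import Cfsg.Agent.H209.EPX.Defs
import Cfsg.Agent.H818.StrP.Gen
import Cfsg.Agent.H794.Full
import Cfsg.Agent.S0002

/-!
# S5745, affine stabilisers: the abstract part (helper355)

`H` the stabiliser of an extremely primitive group `G`, `X` a minimal normal subgroup of `H`, abelian, an `s`-group.

* `conj_mem` : `1 ≠ z ∈ X`, `g z g⁻¹ ∈ H` : `g ∈ H`;
* `strongly_closed` : `X` is strongly closed in every Sylow `s`-subgroup containing it;
* `eq_of_nfus`, `eq_of_full` : `X` is a Sylow `s`-subgroup;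
* `strongly_embedded` : then `H` is strongly `s`-embedded;
* `card_lt` : if moreover `|X| = s` then `|G| < s ^ 4` (`G` simple).
-/

set_option autoImplicit false
set_option linter.unusedSectionVars false

namespace Cfsg.Agent.H355.AFF

open Subgroup Cfsg Cfsg.Agent.H284 Cfsg.Agent.H209.EPX

variable {G : Type*} [Group G] [Finite G] {H X : Subgroup G} (h : EPA2 H X)

include h

theorem exists_prime : ∃ s : ℕ, s.Prime ∧ ∀ a ∈ X, a ^ s = 1 :=
  h.ep.ab_elem h.m.le h.m.nrm h.m.ne h.ab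

theorem cent_le {c : G} (hc : ∀ a ∈ X, c * a = a * c) : c ∈ X :=
  h.ep.ab_cent h.m.le h.m.nrm h.m.ne h.ab (h.ep.cent_le h.m.toNIn h.m.ne hc) hc

/-- a nontrivial element of `X` fixes only one point -/
theorem conj_mem {z g : G} (hz : z ∈ X) (hz1 : z ≠ 1) (hg : g * z * g⁻¹ ∈ H) : g ∈ H := by
  by_contra hgH
  have h1 : g⁻¹ ∉ H := fun e => hgH (by have := H.inv_mem e; rwa [inv_inv] at this)
  have h2 := h.ep.ab_inf h.m.le h.m.nrm h.m.ne h.ab h1
  have h3 : z ∈ X ⊓ cj g⁻¹ H := mem_inf.2 ⟨hz, by rw [mem_cj, inv_inv]; exact hg⟩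
  rw [h2, mem_bot] at h3
  exact hz1 h3

theorem exists_mem : ∃ z ∈ X, z ≠ 1 := by
  have := X.bot_or_exists_ne_one
  rcases this with h1 | h1
  · exact absurd h1 h.m.ne
  · exact h1

variable {s : ℕ} [hs : Fact s.Prime]

/-- a Sylow subgroup containing `X` lies in `H` -/
theorem sylow_le {S : Sylow s G} (hXS : X ≤ (S : Subgroup G)) : (S : Subgroup G) ≤ H := by
  by_contra hcon
  have h1 : (S : Subgroup G) ≠ (S : Subgroup G) ⊓ H := fun e => hcon (inf_eq_left.1 e.symm)
  obtain ⟨y, hy, hy1, hy2⟩ := exists_norm_lt hs.out (R := (S : Subgroup G) ⊓ H) (Q := (S : Subgroup G)) S.2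
    inf_le_left h1
  obtain ⟨z, hz, hz1⟩ := exists_mem h
  have h2 := hy2 z ⟨hXS hz, h.m.le hz⟩
  exact hy1 ⟨hy, conj_mem h hz hz1 h2.2⟩

theorem strongly_closed {S : Sylow s G} (hXS : X ≤ (S : Subgroup G)) : IsStronglyClosed X (S : Subgroup G) := by
  refine ⟨hXS, fun x hx g hg => ?_⟩
  by_cases hx1 : x = 1
  · subst hx1
    simp
  · exact h.m.nrm g (conj_mem h hx hx1 (sylow_le h hXS hg)) x hx

theorem eq_of_cent {S : Sylow s G} (hXS : X ≤ (S : Subgroup G))
    (hc : ∀ a ∈ X, ∀ b ∈ (S : Subgroup G), a * b = b * a) : X = (S : Subgroup G) :=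
  le_antisymm hXS fun _ hb => cent_le h fun a ha => (hc a ha _ hb).symm

/-- `N_G(S)` controls fusion: `X = S` -/
theorem eq_of_nfus (hN : H794.NFus s G) {S : Sylow s G} (hXS : X ≤ (S : Subgroup G)) : X = (S : Subgroup G) := by
  let Z : Subgroup G := (S : Subgroup G) ⊓ Subgroup.centralizer ((S : Subgroup G) : Set G)
  have hZX : Z ≤ X := fun c hc => cent_le h fun a ha => (Subgroup.mem_centralizer_iff.1 hc.2 a (hXS ha)).symm
  have hSne : (S : Subgroup G) ≠ ⊥ := fun e => h.m.ne (le_bot_iff.1 (e ▸ hXS))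
  have hZne : Z ≠ ⊥ := by
    have hnt : Nontrivial ↥(S : Subgroup G) := (Subgroup.nontrivial_iff_ne_bot _).2 hSne
    have h1 := S.2.center_nontrivial
    obtain ⟨c, hc⟩ := _root_.exists_ne (1 : Subgroup.center ↥(S : Subgroup G))
    intro e
    apply hc
    have h2 : ((c : ↥(S : Subgroup G)) : G) ∈ Z := by
      refine mem_inf.2 ⟨(c : ↥(S : Subgroup G)).2, ?_⟩
      rw [Subgroup.mem_centralizer_iff]
      intro x hx
      have h3 := Subgroup.mem_center_iff.1 c.2 ⟨x, hx⟩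
      exact Subtype.ext_iff.1 h3
    rw [e, mem_bot] at h2
    exact Subtype.ext (Subtype.ext h2)
  have hZn : ∀ g ∈ H, ∀ z ∈ Z, g * z * g⁻¹ ∈ Z := by
    intro g hg z hz
    obtain ⟨n, hn, h1⟩ := hN S (zpowers z) (by rw [zpowers_le]; exact hz.1) g (by
      intro x hx
      exact hXS (h.m.nrm g hg x (by
        have h2 : zpowers z ≤ X := by rw [zpowers_le]; exact hZX hz
        exact h2 hx)))
    rw [← h1 z (mem_zpowers z)]
    refine mem_inf.2 ⟨(mem_normalizer_iff.1 hn z).1 hz.1, ?_⟩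
    rw [Subgroup.mem_centralizer_iff]
    intro x hx
    have h2 : n⁻¹ * x * n ∈ (S : Subgroup G) := by
      have := (mem_normalizer_iff.1 (inv_mem hn) x).1 hx
      rwa [inv_inv] at this
    have h3 := Subgroup.mem_centralizer_iff.1 hz.2 _ h2
    calc x * (n * z * n⁻¹) = n * (n⁻¹ * x * n * z) * n⁻¹ := by group
      _ = n * (z * (n⁻¹ * x * n)) * n⁻¹ := by rw [h3]
      _ = n * z * n⁻¹ * x := by group
  have hZe : Z = X := h.ep.ab_min h.m.le h.m.nrm h.m.ne h.ab hZX hZn hZne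
  refine eq_of_cent h hXS fun a ha b hb => ?_
  rw [← hZe] at ha
  exact (Subgroup.mem_centralizer_iff.1 ha.2 b hb).symm

/-- `H` is strongly embedded if `X` is a Sylow subgroup -/
theorem strongly_embedded {S : Sylow s G} (hXS : X = (S : Subgroup G)) : IsStronglyPEmbedded s H := by
  have hsX : s ∣ Nat.card ↥X := by
    have h1 : IsPGroup s ↥X := by rw [hXS]; exact S.2
    obtain ⟨k, hk⟩ := IsPGroup.iff_card.1 h1
    rw [hk]
    apply dvd_pow_self
    rintro rfl
    rw [pow_zero] at hk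
    exact h.m.ne (Subgroup.card_eq_one.1 hk)
  refine H818.StrP.of_normIn' (hsX.trans (Subgroup.card_dvd_of_le h.m.le)) h.ep.max.1 ?_
  intro Q hQ hQH hQ1
  have hQX : Q ≤ X := by
    have hn : Q ≤ normalizer (X : Set G) := by
      intro q hq
      rw [mem_normalizer_iff]
      intro x
      constructor
      · exact h.m.nrm q (hQH hq) x
      · intro hx
        have h2 := h.m.nrm q⁻¹ (H.inv_mem (hQH hq)) _ hx
        have e : q⁻¹ * (q * x * q⁻¹) * q⁻¹⁻¹ = x := by group
        rwa [e] at h2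
    have h3 : IsPGroup s ↥(Q ⊔ X : Subgroup G) := by
      apply IsPGroup.to_sup_of_normal_right' hQ _ hn
      rw [hXS]
      exact S.2
    have h4 : (Q ⊔ X : Subgroup G) = (S : Subgroup G) := S.is_maximal' h3 (hXS ▸ le_sup_right)
    rw [hXS, ← h4]
    exact le_sup_left
  obtain ⟨q, hq, hq1⟩ := Q.bot_or_exists_ne_one.resolve_left hQ1
  intro n hn
  exact conj_mem h (hQX hq) hq1 (hQH ((mem_normalizer_iff.1 hn q).1 hq))

end Cfsg.Agent.H355.AFF
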