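import Cfsg.Agent.H355.AFF.Odd
import Cfsg.Agent.H374.EightExc
import Cfsg.Agent.S1252
import Cfsg.Agent.H542.EPX.Cells

/-!
# S5745: the cells `Aff G`, all families except the Suzuki and the Ree groups (helper355)
-/

set_option autoImplicit false
set_option linter.unusedSectionVars false

namespace Cfsg.Agent.H355.AFF

open Subgroup Cfsg Cfsg.Agent.H284 Cfsg.Agent.H209.EPX

universe u

section

variable {G : Type u} [Group G] [Finite G] {H X : Subgroup G} (h : EPA2 H X)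

include h

/-- `s = 2` -/
theorem two_false [IsSimpleGroup G] (h8 : ∃ x : G, orderOf x = 8) (hX : ∀ a ∈ X, a ^ 2 = 1) : False := by
  have h2 : Fact (Nat.Prime 2) := ⟨Nat.prime_two⟩
  obtain ⟨S, hS⟩ := exists_sylow h hX
  have hXS : X = (S : Subgroup G) := by
    rcases H794.TwoClosed.two_row (not_comm h) (fun S A hA hns hO => S1252.result S A hA hns hO) with h1 | h1
    · rcases h1 S X (strongly_closed h hS) with h3 | h3
      · exact absurd h3 h.m.ne
      · exact h3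
    · exact eq_of_nfus h (H794.NFus.of_ti h1) hS
  obtain ⟨x, hx⟩ := h8
  have hp : IsPGroup 2 ↥(zpowers x) := by
    apply IsPGroup.of_card (n := 3)
    rw [Nat.card_zpowers, hx]
    norm_num
  obtain ⟨R, hR⟩ := hp.exists_le_sylow
  obtain ⟨g, hg⟩ := MulAction.exists_smul_eq G R S
  have h3 : g * x * g⁻¹ ∈ X := by
    rw [hXS, ← hg]
    exact ⟨x, hR (mem_zpowers x), rfl⟩
  have h4 := hX _ h3
  rw [conj_pow] at h4
  have h5 : x ^ 2 = 1 := by
    calc x ^ 2 = g⁻¹ * (g * x ^ 2 * g⁻¹) * g := by group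
      _ = 1 := by rw [h4]; group
  have h6 := orderOf_dvd_of_pow_eq_one h5
  rw [hx] at h6
  norm_num at h6

omit h in
theorem exists_char (F : Type) [Field F] [Fintype F] : ∃ p : ℕ, p.Prime ∧ CharP F p :=
  ⟨ringChar F, CharP.char_is_prime F (ringChar F), inferInstance⟩

theorem g2_false [IsSimpleGroup G] (hG : Lie.IsoChevG2 G) : False := by
  refine two_false h (H374.EightExc.G2 hG) ?_
  obtain ⟨F, i1, i2, h3, e⟩ := hG
  obtain ⟨p, hp, hc⟩ := exists_char F
  have := Fact.mk hp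
  exact two_of_exc h (p := p) (Or.inl ⟨F, i1, i2, hc, Or.inl ⟨h3, e⟩⟩)

theorem f4_false [IsSimpleGroup G] (hG : Lie.IsoF4 G) : False := by
  refine two_false h (H374.EightExc.F4 hG) ?_
  obtain ⟨F, i1, i2, e⟩ := hG
  obtain ⟨p, hp, hc⟩ := exists_char F
  have := Fact.mk hp
  exact two_of_exc h (p := p) (Or.inl ⟨F, i1, i2, hc, Or.inr (Or.inl e)⟩)

theorem e6_false [IsSimpleGroup G] (hG : Lie.IsoChevE6 G) : False := by
  refine two_false h (H374.EightExc.E6 hG) ?_
  obtain ⟨F, i1, i2, e⟩ := hG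
  obtain ⟨p, hp, hc⟩ := exists_char F
  have := Fact.mk hp
  exact two_of_exc h (p := p) (Or.inl ⟨F, i1, i2, hc, Or.inr (Or.inr (Or.inl e))⟩)

theorem e7_false [IsSimpleGroup G] (hG : Lie.IsoE7 G) : False := by
  refine two_false h (H374.EightExc.E7 hG) ?_
  obtain ⟨F, i1, i2, e⟩ := hG
  obtain ⟨p, hp, hc⟩ := exists_char F
  have := Fact.mk hp
  exact two_of_exc h (p := p) (Or.inl ⟨F, i1, i2, hc, Or.inr (Or.inr (Or.inr (Or.inl e)))⟩)

theorem e8_false [IsSimpleGroup G] (hG : Lie.IsoE8 G) : False := by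
  refine two_false h (H374.EightExc.E8 hG) ?_
  obtain ⟨F, i1, i2, e⟩ := hG
  obtain ⟨p, hp, hc⟩ := exists_char F
  have := Fact.mk hp
  exact two_of_exc h (p := p) (Or.inl ⟨F, i1, i2, hc, Or.inr (Or.inr (Or.inr (Or.inr e)))⟩)

theorem te6_false [IsSimpleGroup G] (hG : Lie.Iso2E6 G) : False := by
  refine two_false h (H374.EightExc.twE6 hG) ?_
  obtain ⟨K, i1, i2, q, hq, hK, e⟩ := hG
  obtain ⟨p, hp, hc⟩ := exists_char K
  have := Fact.mk hp
  exact two_of_exc h (p := p) (Or.inr ⟨K, i1, i2, hc, q, hq, Or.inl ⟨hK, e⟩⟩)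

theorem td4_false [IsSimpleGroup G] (hG : Lie.Iso3D4 G) : False := by
  refine two_false h (H374.EightExc.twD4 hG) ?_
  obtain ⟨K, i1, i2, q, hq, hK, e⟩ := hG
  obtain ⟨p, hp, hc⟩ := exists_char K
  have := Fact.mk hp
  exact two_of_exc h (p := p) (Or.inr ⟨K, i1, i2, hc, q, hq, Or.inr ⟨hK, e⟩⟩)

theorem tf4_false [IsSimpleGroup G] (hG : Lie.Iso2F4 G) : False :=
  two_false h (H374.EightExc.twF4 hG) (two_of_tf4 h hG)

theorem tits_false [IsSimpleGroup G] (hG : Lie.IsoTits G) : False :=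
  two_false h (H374.EightExc.tits hG) (two_of_tits h hG)

end

/-! ### The cells of `H542.EPX.Cells` -/

section cells

open Cfsg.Agent.H542.EPX

/-- `G₂(q)` -/
theorem aff_g2 (F : Type) [Field F] [Fintype F] [IsSimpleGroup ↥(Lie.chevG2.group F)] (h3 : 3 ≤ Fintype.card F) :
    Aff ↥(Lie.chevG2.group F) := by
  have : Finite ↥(Lie.chevG2.group F) := inferInstance
  exact fun H X h => g2_false h ⟨F, inferInstance, inferInstance, h3, ⟨MulEquiv.refl _⟩⟩

/-- `F₄(q)` -/
theorem aff_f4 (F : Type) [Field F] [Fintype F] [IsSimpleGroup ↥(Lie.chevF4.group F)] :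
    Aff ↥(Lie.chevF4.group F) := by
  have : Finite ↥(Lie.chevF4.group F) := inferInstance
  exact fun H X h => f4_false h ⟨F, inferInstance, inferInstance, ⟨MulEquiv.refl _⟩⟩

/-- `E₆(q)` -/
theorem aff_e6 (F : Type) [Field F] [Fintype F] [IsSimpleGroup ↥(Lie.chevE6.group F)] :
    Aff ↥(Lie.chevE6.group F) := by
  have : Finite ↥(Lie.chevE6.group F) := inferInstance
  exact fun H X h => e6_false h ⟨F, inferInstance, inferInstance, ⟨MulEquiv.refl _⟩⟩

/-- `E₇(q)` -/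
theorem aff_e7 (F : Type) [Field F] [Fintype F] [IsSimpleGroup ↥(Lie.chevE7.group F)] :
    Aff ↥(Lie.chevE7.group F) := by
  have : Finite ↥(Lie.chevE7.group F) := inferInstance
  exact fun H X h => e7_false h ⟨F, inferInstance, inferInstance, ⟨MulEquiv.refl _⟩⟩

/-- `E₈(q)` -/
theorem aff_e8 (F : Type) [Field F] [Fintype F] [IsSimpleGroup ↥(Lie.chevE8.group F)] :
    Aff ↥(Lie.chevE8.group F) := by
  have : Finite ↥(Lie.chevE8.group F) := inferInstance
  exact fun H X h => e8_false h ⟨F, inferInstance, inferInstance, ⟨MulEquiv.refl _⟩⟩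

/-- `²E₆(q)` -/
theorem aff_te6 (K : Type) [Field K] [Fintype K] (q : ℕ) [IsSimpleGroup ↥(Lie.twistedE6 K q)]
    (hq : IsPrimePow q) (hK : Fintype.card K = q ^ 2) : Aff ↥(Lie.twistedE6 K q) := by
  have : Finite ↥(Lie.twistedE6 K q) := inferInstance
  exact fun H X h => te6_false h ⟨K, inferInstance, inferInstance, q, hq, hK, ⟨MulEquiv.refl _⟩⟩

/-- `³D₄(q)` -/
theorem aff_td4 (K : Type) [Field K] [Fintype K] (q : ℕ) [IsSimpleGroup ↥(Lie.twistedD4 K q)]
    (hq : IsPrimePow q) (hK : Fintype.card K = q ^ 3) : Aff ↥(Lie.twistedD4 K q) := by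
  have : Finite ↥(Lie.twistedD4 K q) := inferInstance
  exact fun H X h => td4_false h ⟨K, inferInstance, inferInstance, q, hq, hK, ⟨MulEquiv.refl _⟩⟩

/-- `²F₄(q)` -/
theorem aff_tf4 (K : Type) [Field K] [Fintype K] (m : ℕ) [IsSimpleGroup ↥(Lie.twistedF4 K (2 ^ m))]
    (hm : 1 ≤ m) (hK : Fintype.card K = 2 ^ (2 * m + 1)) : Aff ↥(Lie.twistedF4 K (2 ^ m)) := by
  have : Finite ↥(Lie.twistedF4 K (2 ^ m)) := inferInstance
  exact fun H X h => tf4_false h ⟨K, inferInstance, inferInstance, m, hm, hK, ⟨MulEquiv.refl _⟩⟩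

/-- the Tits group -/
theorem aff_tits [IsSimpleGroup Lie.TitsGroup] : Aff Lie.TitsGroup := by
  have : Finite Lie.TitsGroup := inferInstance
  exact fun H X h => tits_false h ⟨MulEquiv.refl _⟩

end cells

end Cfsg.Agent.H355.AFF
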