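import Cfsg.Agent.H355.AFF.Cnt
import Cfsg.Agent.H355.AFF.Num
import Cfsg.Agent.H792.FF
import Cfsg.Agent.H790.RestFive
import Cfsg.Agent.H193.StrP.LieFill
import Cfsg.Agent.H193.StrP.Spor
import Cfsg.Agent.H496.SpTwF.Row
import Cfsg.Agent.OrdDiv.Table

/-!
# S5745, affine stabilisers, `s` odd (helper355)

* `eq_sylow` : `G` exceptional, `s ≠ 2` (the characteristic is allowed): `X` is a Sylow `s`-subgroup of `G`;
* `cross_exc` : `G₂`, `F₄`, `E₆`, `E₇`, `E₈`, `²E₆`, `³D₄` in characteristic `p ≠ s`: impossible;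
* `cross_tf4`, `cross_tits` : `²F₄(q)`, the Tits group: impossible.
-/

set_option autoImplicit false
set_option linter.unusedSectionVars false

namespace Cfsg.Agent.H355.AFF

open Subgroup Cfsg Cfsg.Agent.H284 Cfsg.Agent.H209.EPX Cfsg.Agent.H193.StrP Cfsg.Agent.H818.StrP

universe u

variable {G : Type u} [Group G] [Finite G] {H X : Subgroup G} (h : EPA2 H X) {s : ℕ} [hs : Fact s.Prime]

include h

theorem not_comm : ¬ IsMulCommutative G := by
  intro hc
  apply h.ep.ne
  rw [← h.ep.core]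
  have hn : H.Normal := ⟨fun n hn g => by
    have e : g * n * g⁻¹ = n := by
      rw [hc.is_comm.comm g n, mul_inv_cancel_right]
    rwa [e]⟩
  exact (Subgroup.normalCore_eq_self H).symm

/-- `X` is contained in a Sylow subgroup -/
theorem exists_sylow (hX : ∀ a ∈ X, a ^ s = 1) : ∃ S : Sylow s G, X ≤ (S : Subgroup G) := by
  have h1 : IsPGroup s ↥X := fun a => ⟨1, by rw [pow_one]; exact Subtype.ext (hX a a.2)⟩
  exact h1.exists_le_sylow

/-- **`X` is a Sylow subgroup** (Flores, Foote) -/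
theorem eq_sylow [IsSimpleGroup G] (hG : IsExceptionalLieType G) (hs2 : s ≠ 2) {S : Sylow s G}
    (hXS : X ≤ (S : Subgroup G)) : X = (S : Subgroup G) := by
  have hsc := strongly_closed h hXS
  rcases H792.FF.res_exc hs2 (not_comm h) hG H790.RestFive.rest_five with hF | hN | ⟨rfl, F, _, _, h3, h9, ⟨e⟩⟩
  · rcases H792.SpTool.full_of_fullP hF S X hsc with h1 | h1
    · exact absurd h1 h.m.ne
    · exact h1
  · exact eq_of_nfus h hN hXS
  · rcases H181.OctHerm.row h3 e with ⟨-, h1⟩ | ⟨h1, -⟩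
    · rcases h1 S X hsc with h2 | h2 | h2
      · exact absurd h2 h.m.ne
      · exact h2
      · refine eq_of_cent h hXS fun a ha b hb => ?_
        rw [h2.1] at ha
        exact (Subgroup.mem_centralizer_iff.1 ha.2 b hb).symm
    · exact absurd h9 h1

theorem false_of_row [IsSimpleGroup G] {S : Sylow s G} (hXS : X = (S : Subgroup G)) (hX : ∀ a ∈ X, a ^ s = 1)
    (hR : Row s G) (hb : s ^ 4 < Nat.card G) : False := by
  rcases hR with hc | hn
  · have h1 := hc S
    rw [← hXS] at h1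
    obtain ⟨g, hg⟩ := h1.exists_generator
    have h2 : Nat.card ↥X = orderOf g := by
      rw [← Nat.card_zpowers]
      have : zpowers g = ⊤ := (Subgroup.eq_top_iff' _).2 hg
      rw [this, Subgroup.card_top]
    have h3 : orderOf g ∣ s := orderOf_dvd_of_pow_eq_one (Subtype.ext (hX g g.2))
    rcases (Nat.dvd_prime hs.out).1 h3 with h4 | h4
    · rw [h4] at h2
      exact h.m.ne (Subgroup.card_eq_one.1 h2)
    · have h5 := card_le_four h hXS (h2.trans h4)
      omega
  · exact hn H (strongly_embedded h hXS)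

theorem dvd_card {S : Sylow s G} (hXS : X = (S : Subgroup G)) : s ∣ Nat.card G := by
  have h1 := EvenType.StrongP.dvd_card (strongly_embedded h hXS)
  exact h1.trans (Subgroup.card_subgroup_dvd_card H)

omit h in
theorem hO : LieOpen.{u} := lieOpen_of fun h _ _ hp2 => H496.SpTwF.RowFin.row_2F4 h hp2

/-- the seven families in characteristic `p ≠ s` -/
theorem cross_exc [IsSimpleGroup G] {p : ℕ} [hp : Fact p.Prime]
    (hG : IsExceptionalChevChar p G ∨ IsTwistedE6D4Char p G) (hs2 : s ≠ 2) (hsp : s ≠ p)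
    (hX : ∀ a ∈ X, a ^ s = 1) : False := by
  have hGe : IsExceptionalLieType G := by
    rcases hG with ⟨F, i1, i2, _, h1⟩ | ⟨K, i1, i2, _, q, hq, h1⟩
    · rcases h1 with h1 | h1 | h1 | h1 | h1
      · exact Or.inl ⟨F, i1, i2, h1⟩
      · exact Or.inr (Or.inl ⟨F, i1, i2, h1⟩)
      · exact Or.inr (Or.inr (Or.inl ⟨F, i1, i2, h1⟩))
      · exact Or.inr (Or.inr (Or.inr (Or.inl ⟨F, i1, i2, h1⟩)))
      · exact Or.inr (Or.inr (Or.inr (Or.inr (Or.inl ⟨F, i1, i2, h1⟩))))
    · rcases h1 with h1 | h1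
      · exact Or.inr (Or.inr (Or.inr (Or.inr (Or.inr (Or.inl ⟨K, i1, i2, q, hq, h1.1, h1.2⟩)))))
      · exact Or.inr (Or.inr (Or.inr (Or.inr (Or.inr (Or.inr (Or.inl ⟨K, i1, i2, q, hq, h1.1, h1.2⟩))))))
  obtain ⟨S, hS⟩ := exists_sylow h hX
  have hXS := eq_sylow h hGe hs2 hS
  have hd := dvd_card h hXS
  refine false_of_row h hXS hX ?_ ?_
  · rcases hG with ⟨F, _, _, _, h1⟩ | ⟨F, _, _, _, q, hq, h1⟩
    · rcases h1 with ⟨h3, ⟨e⟩⟩ | ⟨⟨e⟩⟩ | ⟨⟨e⟩⟩ | ⟨⟨e⟩⟩ | ⟨⟨e⟩⟩
      · have : Finite ↥(Lie.chevG2.group F) := Finite.of_equiv _ e.toEquiv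
        rcases Nat.eq_or_lt_of_le h3 with h5 | h5
        · refine (row_g2_three hs2 ?_ h5.symm).congr e.symm
          rintro rfl
          have h6 : p ∣ Fintype.card F := (CharP.cast_eq_zero_iff F p _).1 (FiniteField.cast_card_eq_zero F)
          rw [← h5] at h6
          exact absurd ((Nat.prime_dvd_prime_iff_eq hp.out Nat.prime_three).1 h6).symm hsp
        · exact (hO.{0}.g2 (r := p) hs2 hsp h5).congr e.symm
      · have : Finite ↥(Lie.chevF4.group F) := Finite.of_equiv _ e.toEquiv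
        rcases card_two_or (F := F) with h5 | h5
        · exact (row_f4_two hs2 h5).congr e.symm
        · exact (hO.{0}.f4 (r := p) hs2 hsp h5).congr e.symm
      · have : Finite ↥(Lie.chevE6.group F) := Finite.of_equiv _ e.toEquiv
        rcases card_two_or (F := F) with h5 | h5
        · exact (row_e6_two hs2 h5).congr e.symm
        · exact (hO.{0}.e6 (r := p) hs2 hsp h5).congr e.symm
      · have : Finite ↥(Lie.chevE7.group F) := Finite.of_equiv _ e.toEquiv
        rcases card_two_or (F := F) with h5 | h5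
        · exact (row_e7_two hs2 h5).congr e.symm
        · exact (hO.{0}.e7 (r := p) hs2 hsp h5).congr e.symm
      · have : Finite ↥(Lie.chevE8.group F) := Finite.of_equiv _ e.toEquiv
        rcases card_two_or (F := F) with h5 | h5
        · exact (row_e8_two hO.{0} hs2 h5).congr e.symm
        · exact (hO.{0}.e8 (r := p) hs2 hsp h5).congr e.symm
    · have h2 := hq.two_le
      rcases h1 with ⟨hc, ⟨e⟩⟩ | ⟨hc, ⟨e⟩⟩
      · have : Finite ↥(Lie.twistedE6 F q) := Finite.of_equiv _ e.toEquiv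
        rcases Nat.eq_or_lt_of_le h2 with h5 | h5
        · subst h5
          exact (row_te6_two hO.{0} hs2 (by rw [hc]; norm_num)).congr e.symm
        · exact (hO.{0}.te6 (r := p) hs2 hsp hq h5 hc).congr e.symm
      · have : Finite ↥(Lie.twistedD4 F q) := Finite.of_equiv _ e.toEquiv
        rcases Nat.eq_or_lt_of_le h2 with h5 | h5
        · subst h5
          exact (row_td4_two hs2 (by rw [hc]; norm_num)).congr e.symm
        · exact (hO.{0}.td4 (r := p) hs2 hsp hq h5 hc).congr e.symm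
  · rcases hG with ⟨F, _, _, _, h1⟩ | ⟨F, _, _, _, q, hq, h1⟩
    · have hq2 : 2 ≤ Fintype.card F := Fintype.one_lt_card
      rcases h1 with ⟨h3, ⟨e⟩⟩ | ⟨⟨e⟩⟩ | ⟨⟨e⟩⟩ | ⟨⟨e⟩⟩ | ⟨⟨e⟩⟩
      · rw [Nat.card_congr e.toEquiv] at hd ⊢
        exact Num.g2 hs.out h3 (OrdDiv.table.{0}.g2 F) hd
      · rw [Nat.card_congr e.toEquiv] at hd ⊢
        exact Num.f4 hs.out hq2 (OrdDiv.table.{0}.f4 F _ rfl) hd
      · rw [Nat.card_congr e.toEquiv] at hd ⊢
        exact Num.e6 hs.out hq2 (OrdDiv.table.{0}.e6 F _ rfl) hd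
      · rw [Nat.card_congr e.toEquiv] at hd ⊢
        exact Num.e7 hs.out hq2 (OrdDiv.table.{0}.e7 F _ rfl) hd
      · rw [Nat.card_congr e.toEquiv] at hd ⊢
        exact Num.e8 hs.out hq2 (OrdDiv.table.{0}.e8 F _ rfl) hd
    · rcases h1 with ⟨hc, ⟨e⟩⟩ | ⟨hc, ⟨e⟩⟩
      · rw [Nat.card_congr e.toEquiv] at hd ⊢
        exact Num.te6 hs.out hq.two_le (OrdDiv.table.{0}.te6 F q hq hc) hd
      · rw [Nat.card_congr e.toEquiv] at hd ⊢
        exact Num.td4 hs.out hq.two_le (OrdDiv.table.{0}.td4 F q hq hc) hd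

/-- `²F₄(q)` -/
theorem cross_tf4 [IsSimpleGroup G] (hG : Lie.Iso2F4 G) (hs2 : s ≠ 2) (hX : ∀ a ∈ X, a ^ s = 1) : False := by
  have hGe : IsExceptionalLieType G := by
    unfold IsExceptionalLieType
    tauto
  obtain ⟨S, hS⟩ := exists_sylow h hX
  have hXS := eq_sylow h hGe hs2 hS
  have hd := dvd_card h hXS
  refine false_of_row h hXS hX (hO.tf4 hG hs2) ?_
  obtain ⟨K, _, _, m, hm, hK, ⟨e⟩⟩ := hG
  rw [Nat.card_congr e.toEquiv] at hd ⊢
  refine Num.tf4 (q := 2 ^ (2 * m + 1)) hs.out ?_ (OrdDiv.table.{0}.tf4 K m hm hK) hd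
  calc 3 ≤ 2 ^ 3 := by norm_num
    _ ≤ 2 ^ (2 * m + 1) := Nat.pow_le_pow_right (by norm_num) (by omega)

/-- the Tits group -/
theorem cross_tits [IsSimpleGroup G] (hG : Lie.IsoTits G) (hs2 : s ≠ 2) (hX : ∀ a ∈ X, a ^ s = 1) : False := by
  have hGe : IsExceptionalLieType G := by
    unfold IsExceptionalLieType
    tauto
  obtain ⟨S, hS⟩ := exists_sylow h hX
  have hXS := eq_sylow h hGe hs2 hS
  have hd := dvd_card h hXS
  have hc : Nat.card G = 17971200 := NotCT.Orders.tits hG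
  by_cases h5 : s = 5
  · subst h5
    have h1 : IsPGroup 5 ↥X := by rw [hXS]; exact S.2
    obtain ⟨k, hk⟩ := IsPGroup.iff_card.1 h1
    have h2 : 5 ^ k ∣ 17971200 := by
      rw [← hk, ← hc]
      exact Subgroup.card_subgroup_dvd_card X
    have h3 : k ≤ 2 := by
      by_contra hcon
      have h4 : (5 : ℕ) ^ 3 ∣ 17971200 := (pow_dvd_pow 5 (by omega)).trans h2
      norm_num at h4
    interval_cases k
    · rw [pow_zero] at hk
      exact h.m.ne (Subgroup.card_eq_one.1 hk)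
    · have h4 := card_le_four h hXS (by rw [hk, pow_one])
      rw [hc] at h4
      norm_num at h4
    · have h4 := card_le_ten h hXS hk
      rw [hc] at h4
      norm_num at h4
  · refine false_of_row h hXS hX (titsRow s hs2 h5 G hG) ?_
    rw [hc] at hd ⊢
    have h1 : s ∣ 2 ^ 11 * 3 ^ 3 * 5 ^ 2 * 13 := hd.trans (by norm_num)
    simp only [hs.out.dvd_mul] at h1
    have h2 : s ≤ 13 := by
      rcases h1 with ((h1 | h1) | h1) | h1
      · exact (Nat.le_of_dvd (by norm_num) (hs.out.dvd_of_dvd_pow h1)).trans (by norm_num)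
      · exact (Nat.le_of_dvd (by norm_num) (hs.out.dvd_of_dvd_pow h1)).trans (by norm_num)
      · exact (Nat.le_of_dvd (by norm_num) (hs.out.dvd_of_dvd_pow h1)).trans (by norm_num)
      · exact Nat.le_of_dvd (by norm_num) h1
    calc s ^ 4 ≤ 13 ^ 4 := Nat.pow_le_pow_left h2 4
      _ < 17971200 := by norm_num

end Cfsg.Agent.H355.AFF
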