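import Cfsg.Agent.H355.AFF.Cross

/-!
# S5745, affine stabilisers, `s` odd, the characteristic included (helper355)

`odd_exc` : `G₂`, `F₄`, `E₆`, `E₇`, `E₈`, `²E₆`, `³D₄` in any characteristic; `odd_all` : with `²F₄(q)` and the Tits group.
-/

set_option autoImplicit false
set_option linter.unusedSectionVars false

namespace Cfsg.Agent.H355.AFF

open Subgroup Cfsg Cfsg.Agent.H284 Cfsg.Agent.H209.EPX Cfsg.Agent.H818.StrP Cfsg.Agent.H818.StrP.Own

universe u

variable {G : Type u} [Group G] [Finite G] {H X : Subgroup G} (h : EPA2 H X) {s : ℕ} [hs : Fact s.Prime]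

include h

/-- own characteristic -/
theorem own_exc [IsSimpleGroup G] (hG : IsExceptionalChevChar s G ∨ IsTwistedE6D4Char s G) (hs2 : s ≠ 2)
    (hX : ∀ a ∈ X, a ^ s = 1) : False := by
  have hGe : IsExceptionalLieType G := by
    rcases hG with ⟨F, i1, i2, _, h1⟩ | ⟨K, i1, i2, _, q, hq, h1⟩
    · rcases h1 with h1 | h1 | h1 | h1 | h1
      · exact Or.inl ⟨F, i1, i2, h1⟩
      · exact Or.inr (Or.inl ⟨F, i1, i2, h1⟩)
      · exact Or.inr (Or.inr (Or.inl ⟨F, i1, i2, h1⟩))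
      · exact Or.inr (Or.inr (Or.inr (Or.inl ⟨F, i1, i2, h1⟩)))
      · exact Or.inr (Or.inr (Or.inr (Or.inr (Or.inl ⟨F, i1, i2, h1⟩))))
    · rcases h1 with h1 | h1
      · exact Or.inr (Or.inr (Or.inr (Or.inr (Or.inr (Or.inl ⟨K, i1, i2, q, hq, h1.1, h1.2⟩)))))
      · exact Or.inr (Or.inr (Or.inr (Or.inr (Or.inr (Or.inr (Or.inl ⟨K, i1, i2, q, hq, h1.1, h1.2⟩))))))
  obtain ⟨S, hS⟩ := exists_sylow h hX
  have hXS := eq_sylow h hGe hs2 hS
  have hn : NoSP s G := by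
    rcases hG with hG | hG
    · obtain ⟨G', _, _, h1, ⟨e⟩⟩ := hasRGD2_exceptional hG
      exact noSP_congr e.symm h1.noSP
    · obtain ⟨G', _, _, h1, ⟨e⟩⟩ := hasRGD2_twisted hG
      exact noSP_congr e.symm h1.noSP
  exact hn H (strongly_embedded h hXS)

/-- **the seven families, `s` odd, any characteristic** -/
theorem odd_exc [IsSimpleGroup G] {p : ℕ} [hp : Fact p.Prime]
    (hG : IsExceptionalChevChar p G ∨ IsTwistedE6D4Char p G) (hs2 : s ≠ 2) (hX : ∀ a ∈ X, a ^ s = 1) : False := by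
  by_cases hsp : s = p
  · subst hsp
    exact own_exc h hG hs2 hX
  · exact cross_exc h hG hs2 hsp hX

omit hs in
/-- `X` is a 2-group -/
theorem two_of_exc [IsSimpleGroup G] {p : ℕ} [hp : Fact p.Prime]
    (hG : IsExceptionalChevChar p G ∨ IsTwistedE6D4Char p G) : ∀ a ∈ X, a ^ 2 = 1 := by
  obtain ⟨r, hr, hX⟩ := exists_prime h
  have := Fact.mk hr
  by_cases hr2 : r = 2
  · subst hr2
    exact hX
  · exact (odd_exc h hG hr2 hX).elim

omit hs in
theorem two_of_tf4 [IsSimpleGroup G] (hG : Lie.Iso2F4 G) : ∀ a ∈ X, a ^ 2 = 1 := by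
  obtain ⟨r, hr, hX⟩ := exists_prime h
  have := Fact.mk hr
  by_cases hr2 : r = 2
  · subst hr2
    exact hX
  · exact (cross_tf4 h hG hr2 hX).elim

omit hs in
theorem two_of_tits [IsSimpleGroup G] (hG : Lie.IsoTits G) : ∀ a ∈ X, a ^ 2 = 1 := by
  obtain ⟨r, hr, hX⟩ := exists_prime h
  have := Fact.mk hr
  by_cases hr2 : r = 2
  · subst hr2
    exact hX
  · exact (cross_tits h hG hr2 hX).elim

end Cfsg.Agent.H355.AFF
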